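import Groth.Agent.Etbc.H205.HensExt
import Groth.Agent.Etbc.H226.NFDefs
import Mathlib.LinearAlgebra.TensorProduct.Quotient
import Mathlib.LinearAlgebra.Dimension.Constructions

/-!
# Finite extensions of henselian discrete valuation rings: the count of `R_L / ℓ`
-/

set_option autoImplicit false
set_option linter.unusedSectionVars false
universe u

open IsLocalRing

namespace Groth.Agent.Etbc.H205.C2

/-- `#(S / a S) = #(R / a) ^ rank S` for a finite free `R`-algebra `S`. -/
theorem card_quotient_span (R S : Type*) [CommRing R] [CommRing S] [Algebra R S] [Module.Free R S]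
    [Module.Finite R S] [StrongRankCondition R] (a : R) :
    Nat.card (S ⧸ Ideal.span {algebraMap R S a}) = Nat.card (R ⧸ Ideal.span {a}) ^ Module.finrank R S := by
  let I : Ideal R := Ideal.span {a}
  let b := Module.Free.chooseBasis R S
  have h1 : Nat.card (TensorProduct R (R ⧸ I) S) = Nat.card (R ⧸ I) ^ Module.finrank R S := by
    rw [Nat.card_congr (b.baseChange (R ⧸ I)).equivFun.toEquiv, Nat.card_fun,
      Module.finrank_eq_card_basis b, Nat.card_eq_fintype_card (α := Module.Free.ChooseBasisIndex R S)]
  have h2 : Nat.card (TensorProduct R (R ⧸ I) S) = Nat.card (S ⧸ (I • ⊤ : Submodule R S)) :=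
    Nat.card_congr (TensorProduct.quotTensorEquivQuotSMul S I).toEquiv
  have h3 : (I • ⊤ : Submodule R S) = (Ideal.span {algebraMap R S a}).restrictScalars R := by
    rw [Ideal.smul_top_eq_map, Ideal.map_span, Set.image_singleton]
  rw [← h1, h2, h3]
  rfl

variable (R k L : Type u) [CommRing R] [IsDomain R] [IsDiscreteValuationRing R]
    [HenselianLocalRing R] [Field k] [Algebra R k] [IsFractionRing R k]
    [Field L] [Algebra k L] [FiniteDimensional k L]
    [Algebra R L] [IsScalarTower R k L]

/-- The count, for a finite separable extension. -/
theorem card_integralClosure [Algebra.IsSeparable k L] (ℓ : ℕ) :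
    Nat.card (integralClosure R L ⧸ Ideal.span {(ℓ : integralClosure R L)}) =
        Nat.card (R ⧸ Ideal.span {(ℓ : R)}) ^ Module.finrank k L := by
  have htf : Module.IsTorsionFree R L := by
    have : Function.Injective (algebraMap R L) := by
      rw [IsScalarTower.algebraMap_eq R k L]
      exact (algebraMap k L).injective.comp (IsFractionRing.injective R k)
    have : FaithfulSMul R L := (faithfulSMul_iff_algebraMap_injective R L).mpr this
    infer_instance
  have hfin : Module.Finite R (integralClosure R L) := IsIntegralClosure.finite R k L _
  have hfree : Module.Free R (integralClosure R L) := IsIntegralClosure.module_free R k L _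
  have hrank : Module.finrank R (integralClosure R L) = Module.finrank k L :=
    IsIntegralClosure.rank R k L _
  have := card_quotient_span R (integralClosure R L) (ℓ : R)
  rwa [map_natCast, hrank] at this

/-- The integral closure of a henselian discrete valuation ring of characteristic zero with finite residue field
in a finite extension of its fraction field. -/
theorem C2 [CharZero k] [Finite (IsLocalRing.ResidueField R)] :
    ∃ (_ : IsDiscreteValuationRing (integralClosure R L)) (_ : HenselianLocalRing (integralClosure R L)),
      Finite (IsLocalRing.ResidueField (integralClosure R L)) ∧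
      IsFractionRing (integralClosure R L) L ∧
      ∀ ℓ : ℕ, ℓ ≠ 0 → Nat.card (integralClosure R L ⧸ Ideal.span {(ℓ : integralClosure R L)}) =
        Nat.card (R ⧸ Ideal.span {(ℓ : R)}) ^ Module.finrank k L := by
  obtain ⟨h1, h2, h3, h4, h5, h6⟩ := HensExt.exists_integralClosure R k L
  refine ⟨h1, h2, ?_, h3, fun ℓ _ => card_integralClosure R k L ℓ⟩
  exact Module.finite_of_finite (ResidueField R)

open Groth.Agent.Etbc.H226.NFDefs in
/-- A finite extension of a local field is a local field. -/
theorem isLF_of_finite (k L : Type u) [Field k] [Field L] [Algebra k L] [FiniteDimensional k L]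
    (hk : IsLF k) : IsLF L := by
  obtain ⟨hc, R, _, _, _, _, hH, hfr, hfin⟩ := hk
  have hcL : CharZero L := charZero_of_injective_algebraMap (algebraMap k L).injective
  let _ : Algebra R L := ((algebraMap k L).comp (algebraMap R k)).toAlgebra
  have : IsScalarTower R k L := IsScalarTower.of_algebraMap_eq fun _ => rfl
  obtain ⟨h1, h2, h3, h4, -⟩ := C2 R k L
  exact ⟨hcL, integralClosure R L, inferInstance, inferInstance, inferInstance, h1, h2, h4, h3⟩

end Groth.Agent.Etbc.H205.C2
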