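import Groth.Agent.S1964
import Groth.Agent.Models.EtaleDVR
import Mathlib.RingTheory.DedekindDomain.IntegralClosure
import Mathlib.RingTheory.DiscreteValuationRing.TFAE
import Mathlib.FieldTheory.PrimitiveElement
import Mathlib.FieldTheory.Perfect
import Mathlib.RingTheory.AdjoinRoot
import Mathlib.Algebra.Polynomial.Eval.Irreducible
import Mathlib.RingTheory.Localization.Finiteness
import Mathlib.RingTheory.Algebraic.Integral
import Mathlib.RingTheory.Polynomial.GaussLemma

/-!
# Finite extensions of a henselian discrete valuation ring

`R` a henselian discrete valuation ring with fraction field `K` and residue field `k`.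

* `exists_unramified`: every finite separable extension `k'/k` is the residue field of a henselian discrete
  valuation ring `R'` finite over `R` with the same uniformizer; `K' = Frac R'` is finite separable over `K`.
* `integralClosure_*`: for `K'/K` finite separable the integral closure of `R` in `K'` is a henselian discrete
  valuation ring, finite over `R`, with fraction field `K'` and finite residue extension.
-/

set_option autoImplicit false
set_option linter.unusedSectionVars false
universe u

open IsLocalRing Polynomial

namespace Groth.Agent.Etbc.H205.HensExt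

section unramified

variable {R : Type u} [CommRing R] [IsDomain R] [IsDiscreteValuationRing R]

/-- A polynomial over a discrete valuation ring with zero reduction is divisible by the uniformizer. -/
theorem exists_eq_C_mul {π : R} (hπ : Irreducible π) (g : R[X]) (hg : g.map (residue R) = 0) :
    ∃ h : R[X], g = C π * h := by
  have : C π ∣ g := by
    rw [C_dvd_iff_dvd_coeff]
    intro i
    have h1 : residue R (g.coeff i) = 0 := by
      rw [← coeff_map, hg, coeff_zero]
    rw [residue_eq_zero_iff, hπ.maximalIdeal_eq, Ideal.mem_span_singleton] at h1
    exact h1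
  exact this

/-- The finite étale extension of a discrete valuation ring attached to a monic polynomial with irreducible
reduction. -/
theorem adjoinRoot_aux {π : R} (hπ : Irreducible π) (f : R[X]) (hf : f.Monic)
    (k' : Type u) [Field k'] [Algebra (ResidueField R) k'] (α : k')
    (hα : IsIntegral (ResidueField R) α) (hmin : f.map (residue R) = minpoly (ResidueField R) α)
    (htop : Algebra.adjoin (ResidueField R) {α} = ⊤) :
    ∃ (_ : IsDomain (AdjoinRoot f)) (_ : IsDiscreteValuationRing (AdjoinRoot f))
      (e : ResidueField (AdjoinRoot f) ≃+* k'), Irreducible (AdjoinRoot.of f π) ∧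
      ∀ r : R, e (residue _ (AdjoinRoot.of f r)) = algebraMap (ResidueField R) k' (residue R r) := by
  have hdeg : f.natDegree = (minpoly (ResidueField R) α).natDegree := by
    rw [← hmin, hf.natDegree_map]
  have hdeg0 : f.degree ≠ 0 := by
    have h1 := minpoly.natDegree_pos hα
    rw [← hdeg] at h1
    intro h2
    rw [natDegree_eq_zero_iff_degree_le_zero.mpr h2.le] at h1
    exact absurd h1 (lt_irrefl _)
  have hofinj : Function.Injective (AdjoinRoot.of f) := AdjoinRoot.of.injective_of_degree_ne_zero hdeg0
  have heval : f.eval₂ ((algebraMap (ResidueField R) k').comp (residue R)) α = 0 := by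
    rw [← eval₂_map, hmin]
    exact minpoly.aeval _ _
  let φ : AdjoinRoot f →+* k' := AdjoinRoot.lift ((algebraMap (ResidueField R) k').comp (residue R)) α heval
  have hφmk : ∀ g : R[X], φ (AdjoinRoot.mk f g) = aeval α (g.map (residue R)) := by
    intro g
    change AdjoinRoot.lift _ _ _ _ = _
    rw [AdjoinRoot.lift_mk, ← eval₂_map]
    rfl
  have hφs : Function.Surjective φ := by
    intro x
    have hx : x ∈ Algebra.adjoin (ResidueField R) {α} := by rw [htop]; trivial
    rw [Algebra.adjoin_singleton_eq_range_aeval] at hx
    obtain ⟨p, hp⟩ := hx
    obtain ⟨g, rfl⟩ := Polynomial.map_surjective (residue R) residue_surjective p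
    exact ⟨AdjoinRoot.mk f g, by rw [hφmk]; exact hp⟩
  have hker : RingHom.ker φ = Ideal.span {AdjoinRoot.of f π} := by
    apply le_antisymm
    · intro x hx
      obtain ⟨g, rfl⟩ := AdjoinRoot.mk_surjective x
      rw [RingHom.mem_ker, hφmk] at hx
      obtain ⟨h, hh⟩ := minpoly.dvd _ _ hx
      obtain ⟨h', rfl⟩ := Polynomial.map_surjective (residue R) residue_surjective h
      obtain ⟨g', hg'⟩ := exists_eq_C_mul hπ (g - f * h') (by
        rw [Polynomial.map_sub, Polynomial.map_mul, hmin, hh, sub_self])
      rw [Ideal.mem_span_singleton]
      refine ⟨AdjoinRoot.mk f g', ?_⟩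
      rw [← AdjoinRoot.mk_C, ← map_mul, ← hg', map_sub, map_mul, AdjoinRoot.mk_self, zero_mul, sub_zero]
    · rw [Ideal.span_singleton_le_iff_mem, RingHom.mem_ker]
      change AdjoinRoot.lift _ _ _ _ = _
      rw [AdjoinRoot.lift_of, RingHom.comp_apply]
      have : residue R π = 0 := by
        rw [residue_eq_zero_iff]
        exact (mem_maximalIdeal _).mpr hπ.not_isUnit
      rw [this, map_zero]
  have hkmax : (RingHom.ker φ).IsMaximal := RingHom.ker_isMaximal_of_surjective φ hφs
  have hfin : Module.Finite R (AdjoinRoot f) := hf.finite_adjoinRoot
  have hnoeth : IsNoetherianRing (AdjoinRoot f) := inferInstance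
  have hloc : IsLocalRing (AdjoinRoot f) := by
    refine IsLocalRing.of_unique_max_ideal ⟨RingHom.ker φ, hkmax, ?_⟩
    intro M hM
    have h1 : (M.comap (algebraMap R (AdjoinRoot f))).IsMaximal :=
      Ideal.isMaximal_comap_of_isIntegral_of_isMaximal M
    have h2 := IsLocalRing.eq_maximalIdeal h1
    have h3 : AdjoinRoot.of f π ∈ M := by
      have : π ∈ M.comap (algebraMap R (AdjoinRoot f)) := by
        rw [h2]
        exact (mem_maximalIdeal _).mpr hπ.not_isUnit
      exact this
    exact (hkmax.eq_of_le hM.ne_top (by rw [hker, Ideal.span_singleton_le_iff_mem]; exact h3)).symm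
  have hmax : maximalIdeal (AdjoinRoot f) = RingHom.ker φ := (IsLocalRing.eq_maximalIdeal hkmax).symm
  have hpow : ∀ n : ℕ, (AdjoinRoot.of f π) ^ n ≠ 0 := by
    intro n h
    rw [← map_pow, ← map_zero (AdjoinRoot.of f)] at h
    exact pow_ne_zero n hπ.ne_zero (hofinj h)
  have hdom : IsDomain (AdjoinRoot f) :=
    Groth.Agent.Models.EtaleDVR.isDomain_of_span (AdjoinRoot.of f π) (hmax.trans hker) hpow
  obtain ⟨hdvr, hirr⟩ := Groth.Agent.Models.EtaleDVR.isDVR_of_span (AdjoinRoot.of f π) (hmax.trans hker)
    (by simpa using hpow 1)
  refine ⟨hdom, hdvr, (Ideal.quotEquivOfEq hmax).trans (RingHom.quotientKerEquivOfSurjective hφs), hirr, ?_⟩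
  intro r
  change φ (AdjoinRoot.of f r) = _
  change AdjoinRoot.lift _ _ _ _ = _
  rw [AdjoinRoot.lift_of, RingHom.comp_apply]

end unramified

section

variable (R K : Type u) [CommRing R] [IsDomain R] [IsDiscreteValuationRing R] [HenselianLocalRing R]
  [Field K] [Algebra R K] [IsFractionRing R K]

/-- Every finite separable extension `k'` of the residue field of a henselian discrete valuation ring `R` is the
residue field of a henselian discrete valuation ring `R'`, finite and unramified over `R`; the extension of
fraction fields is finite and separable. -/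
theorem exists_unramified (k' : Type u) [Field k'] [Algebra (ResidueField R) k']
    [FiniteDimensional (ResidueField R) k'] [Algebra.IsSeparable (ResidueField R) k'] :
    ∃ (R' : Type u) (_ : CommRing R') (_ : IsDomain R') (_ : IsDiscreteValuationRing R')
      (_ : HenselianLocalRing R') (_ : Algebra R R') (_ : Module.Finite R R')
      (K' : Type u) (_ : Field K') (_ : Algebra R' K') (_ : IsFractionRing R' K')
      (_ : Algebra K K') (_ : Algebra R K') (_ : IsScalarTower R K K') (_ : IsScalarTower R R' K')
      (_ : FiniteDimensional K K') (_ : Algebra.IsSeparable K K')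
      (e : ResidueField R' ≃+* k'),
      (∀ π : R, Irreducible π → Irreducible (algebraMap R R' π)) ∧
      ∀ r : R, e (residue R' (algebraMap R R' r)) = algebraMap (ResidueField R) k' (residue R r) := by
  classical
  obtain ⟨π, hπ⟩ := IsDiscreteValuationRing.exists_irreducible R
  obtain ⟨α, hα⟩ := Field.exists_primitive_element (ResidueField R) k'
  have hαi : IsIntegral (ResidueField R) α := Algebra.IsIntegral.isIntegral α
  have htop : Algebra.adjoin (ResidueField R) {α} = ⊤ := by
    rw [← IntermediateField.adjoin_simple_toSubalgebra_of_isAlgebraic hαi.isAlgebraic, hα,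
      IntermediateField.top_toSubalgebra]
  obtain ⟨f, hfmap, hfdeg, hf⟩ := lifts_and_degree_eq_and_monic (f := residue R)
    (p := minpoly (ResidueField R) α)
    ((Polynomial.mem_lifts _).mpr (Polynomial.map_surjective (residue R) residue_surjective _))
    (minpoly.monic hαi)
  obtain ⟨hdom, hdvr, e, hirr, he⟩ := adjoinRoot_aux hπ f hf k' α hαi hfmap htop
  have hfin : Module.Finite R (AdjoinRoot f) := hf.finite_adjoinRoot
  obtain ⟨hH, hloc, -⟩ := Groth.Agent.S1964.result R (AdjoinRoot f)
  have hdeg0 : f.degree ≠ 0 := by
    rw [hfdeg]
    exact (minpoly.degree_pos hαi).ne'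
  have hofinj : Function.Injective (algebraMap R (AdjoinRoot f)) :=
    AdjoinRoot.of.injective_of_degree_ne_zero hdeg0
  have hfs : FaithfulSMul R (AdjoinRoot f) := (faithfulSMul_iff_algebraMap_injective _ _).mpr hofinj
  let K' := FractionRing (AdjoinRoot f)
  have hinj : Function.Injective (algebraMap R K') := by
    rw [IsScalarTower.algebraMap_eq R (AdjoinRoot f) K']
    exact (IsFractionRing.injective (AdjoinRoot f) K').comp hofinj
  let algKK' : Algebra K K' := (IsFractionRing.lift (A := R) (K := K) hinj).toAlgebra
  have htower : IsScalarTower R K K' := IsScalarTower.of_algebraMap_eq fun r =>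
    (IsFractionRing.lift_algebraMap (A := R) (K := K) hinj r).symm
  have hfd : FiniteDimensional K K' :=
    Module.Finite.of_isLocalizedModule (Rₚ := K) (nonZeroDivisors R)
      (IsScalarTower.toAlgHom R (AdjoinRoot f) K').toLinearMap
  have hsep : Algebra.IsSeparable K K' := by
    -- the image of the root generates `K'`
    let x : K' := algebraMap (AdjoinRoot f) K' (AdjoinRoot.root f)
    have hx0 : aeval x f = 0 := by
      change aeval (algebraMap (AdjoinRoot f) K' (AdjoinRoot.root f)) f = 0
      rw [aeval_algebraMap_apply, AdjoinRoot.aeval_eq, AdjoinRoot.mk_self, map_zero]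
    have hfirr : Irreducible f := by
      refine Polynomial.Monic.irreducible_of_irreducible_map (residue R) f hf ?_
      rw [hfmap]
      exact minpoly.irreducible hαi
    have hfK : Irreducible (f.map (algebraMap R K)) :=
      (hf.irreducible_iff_irreducible_map_fraction_map (K := K)).mp hfirr
    have hmin : minpoly K x = f.map (algebraMap R K) := by
      refine (minpoly.eq_of_irreducible_of_monic hfK ?_ (hf.map _)).symm
      rw [aeval_map_algebraMap]
      exact hx0
    have hder : derivative (minpoly (ResidueField R) α) ≠ 0 :=
      (separable_iff_derivative_ne_zero (minpoly.irreducible hαi)).mp (Algebra.IsSeparable.isSeparable _ α)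
    have hxs : IsSeparable K x := by
      rw [IsSeparable, hmin, separable_iff_derivative_ne_zero hfK]
      intro h
      apply hder
      rw [derivative_map] at h
      have h2 : derivative f = 0 := (Polynomial.map_injective _ (IsFractionRing.injective R K)) (by
        rw [h, Polynomial.map_zero])
      rw [← hfmap, derivative_map, h2, Polynomial.map_zero]
    have hgen : IntermediateField.adjoin K {x} = ⊤ := by
      rw [eq_top_iff]
      intro z _
      obtain ⟨a, b, hb, rfl⟩ := IsFractionRing.div_surjective (A := AdjoinRoot f) z
      have key : ∀ a : AdjoinRoot f, algebraMap (AdjoinRoot f) K' a ∈ IntermediateField.adjoin K {x} := by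
        intro a
        obtain ⟨g, rfl⟩ := AdjoinRoot.mk_surjective a
        rw [← AdjoinRoot.aeval_eq, ← aeval_algebraMap_apply, ← aeval_map_algebraMap K]
        exact IntermediateField.algebra_adjoin_le_adjoin K {x}
          (Algebra.adjoin_singleton_eq_range_aeval K x ▸ ⟨_, rfl⟩)
      exact div_mem (key a) (key b)
    have h1 : Algebra.IsSeparable K (IntermediateField.adjoin K {x}) :=
      (IntermediateField.isSeparable_adjoin_simple_iff_isSeparable K K').mpr hxs
    rw [hgen] at h1
    exact Algebra.IsSeparable.of_algHom K _ (IntermediateField.topEquiv (F := K) (E := K')).symm.toAlgHom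
  refine ⟨AdjoinRoot f, inferInstance, hdom, hdvr, hH, inferInstance, hfin, K', inferInstance, inferInstance,
    inferInstance, algKK', inferInstance, htower, inferInstance, hfd, hsep, e, ?_, he⟩
  intro ϖ hϖ
  obtain ⟨u, hu⟩ := IsDiscreteValuationRing.associated_of_irreducible R hπ hϖ
  rw [← hu, map_mul]
  exact (irreducible_mul_units (u.map (algebraMap R (AdjoinRoot f)).toMonoidHom)).mpr hirr

end

section integralClosure

variable (R K L : Type u) [CommRing R] [IsDomain R] [IsDiscreteValuationRing R] [HenselianLocalRing R]
  [Field K] [Algebra R K] [IsFractionRing R K]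
  [Field L] [Algebra K L] [Algebra R L] [IsScalarTower R K L] [FiniteDimensional K L]
  [Algebra.IsSeparable K L]

include K in
/-- The integral closure of a henselian discrete valuation ring in a finite separable extension of its fraction
field is a henselian discrete valuation ring, finite over the base, with finite residue extension. -/
theorem exists_integralClosure :
    ∃ (_ : IsDiscreteValuationRing (integralClosure R L)) (_ : HenselianLocalRing (integralClosure R L))
      (_ : IsFractionRing (integralClosure R L) L) (_ : Module.Finite R (integralClosure R L))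
      (_ : IsLocalHom (algebraMap R (integralClosure R L))),
      FiniteDimensional (ResidueField R) (ResidueField (integralClosure R L)) := by
  have hfr : IsFractionRing (integralClosure R L) L :=
    IsIntegralClosure.isFractionRing_of_finite_extension R K L _
  have hfin : Module.Finite R (integralClosure R L) := IsIntegralClosure.finite R K L _
  obtain ⟨hH, hloc, -⟩ := Groth.Agent.S1964.result R (integralClosure R L)
  have hinj : Function.Injective (algebraMap R (integralClosure R L)) := by
    have h : Function.Injective (algebraMap R L) := by
      rw [IsScalarTower.algebraMap_eq R K L]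
      exact (algebraMap K L).injective.comp (IsFractionRing.injective R K)
    intro a b hab
    apply h
    have := congrArg (algebraMap (integralClosure R L) L) hab
    rwa [← IsScalarTower.algebraMap_apply, ← IsScalarTower.algebraMap_apply] at this
  have := integralClosure.isDedekindDomain R K L
  have hnf : ¬ IsField (integralClosure R L) := by
    intro h
    exact IsDiscreteValuationRing.not_isField R
      (isField_of_isIntegral_of_isField (R := R) (S := integralClosure R L) hinj h)
  have hdvr : IsDiscreteValuationRing (integralClosure R L) :=
    ((IsDiscreteValuationRing.TFAE (integralClosure R L) hnf).out 0 2).mpr ‹_›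
  refine ⟨hdvr, hH, hfr, hfin, hloc, ?_⟩
  exact ResidueField.finite_of_module_finite

include K in
/-- The residue field of the integral closure is perfect if the residue field of the base is. -/
theorem perfectField_residueField [PerfectField (ResidueField R)] :
    ∀ (_ : IsLocalRing (integralClosure R L)), PerfectField (ResidueField (integralClosure R L)) := by
  intro hl
  obtain ⟨h1, h2, h3, h4, h5, h6⟩ := exists_integralClosure R K L
  exact Algebra.IsAlgebraic.perfectField (ResidueField R)

end integralClosure

end Groth.Agent.Etbc.H205.HensExt
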