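import Groth.Prelude.Def_Dix
import Groth.Agent.EtpbcA.CdRel
import Groth.Agent.EtpbcA.CdEtLeray
import Groth.Agent.EtpbcA.RpushTors

/-!
# `ℓ`-cohomological dimension and algebraic field extensions

* `isPrimaryTorsion_push`: direct images of `ℓ`-primary torsion sheaves along quasi-compact
  morphisms are `ℓ`-primary torsion;
* `isTorsion_of_isPrimaryTorsion`;
* `cohDimLEAt_of_algebraic`: `cd_ℓ(L) ≤ cd_ℓ(K)` for `L / K` algebraic;
* `cohDimLEAt_of_iso`, `cohDimLEAt_of_ringEquiv`: invariance under isomorphisms.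
-/

set_option autoImplicit false
universe u

open CategoryTheory CategoryTheory.Limits AlgebraicGeometry Opposite

namespace Groth.Agent.Etbc.H205.AlgExt

open Groth.Agent.Etbase Groth.Agent.EtpbcA Groth.Agent.EtpbcA.RpushTors

variable {X Y : Scheme.{u}}

theorem isTorsion_of_isPrimaryTorsion {ℓ : ℕ} (hℓ : ℓ ≠ 0) {F : EtCoh.Ab X}
    (hF : Dix.IsPrimaryTorsion ℓ F) : EtCoh.IsTorsion F := by
  intro U s x
  obtain ⟨V, g, hv, k, hk⟩ := hF U s x
  exact ⟨V, g, hv, isOfFinAddOrder_iff_nsmul_eq_zero.2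
    ⟨ℓ ^ k, Nat.pos_of_ne_zero (pow_ne_zero k hℓ), hk⟩⟩

/-- Sections of an `ℓ`-primary torsion sheaf over a quasi-compact etale scheme are killed by a
power of `ℓ`. -/
theorem exists_pow_nsmul_eq_zero_of_compact {ℓ : ℕ} (F : EtCoh.Ab X)
    (hF : Dix.IsPrimaryTorsion ℓ F) (U : X.Etale) [CompactSpace U.left] (s : EtCoh.sect F U) :
    ∃ k : ℕ, (ℓ ^ k) • s = 0 := by
  let W : ℕ → Set U.left := fun k => {x | EtSections.VanishesAt F U ((ℓ ^ k) • s) x}
  have hW : ∀ k, IsOpen (W k) := fun k => EtSections.isOpen_vanishesAt F U _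
  have hcov : (⋃ k, W k) = Set.univ := by
    rw [Set.eq_univ_iff_forall]
    intro x
    obtain ⟨V, g, ⟨v, hv⟩, k, hk⟩ := hF U s x
    refine Set.mem_iUnion.2 ⟨k, V, g, v, hv, ?_⟩
    rw [map_nsmul]
    exact hk
  obtain ⟨T, hT⟩ := isCompact_univ.elim_finite_subcover W hW (by rw [hcov])
  refine ⟨∑ k ∈ T, k, ?_⟩
  apply EtSections.eq_zero_of_vanishesAt F U
  intro x
  obtain ⟨m, hm⟩ := Set.mem_iUnion.1 (hT (Set.mem_univ x))
  obtain ⟨hmT, V, g, v, hv, h0⟩ := Set.mem_iUnion.1 hm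
  refine ⟨V, g, v, hv, ?_⟩
  obtain ⟨c, hc⟩ := Nat.exists_eq_add_of_le (Finset.single_le_sum (f := fun k : ℕ => k)
    (fun _ _ => Nat.zero_le _) hmT)
  rw [hc, add_comm, pow_add, mul_smul, map_nsmul, h0, smul_zero]

/-- `f_* F` is `ℓ`-primary torsion for `F` `ℓ`-primary torsion and `f` quasi-compact. -/
theorem isPrimaryTorsion_push {ℓ : ℕ} (f : X ⟶ Y) [QuasiCompact f] (F : EtCoh.Ab X)
    (hF : Dix.IsPrimaryTorsion ℓ F) : Dix.IsPrimaryTorsion ℓ ((EtCoh.push f).obj F) := by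
  intro U s x
  obtain ⟨V, g, hV, -, v, hv⟩ := Groth.Agent.Etrest.Site0.exists_affine U x
  refine ⟨V, g, ⟨v, hv⟩, ?_⟩
  have := compactSpace_bc f V hV
  exact exists_pow_nsmul_eq_zero_of_compact F hF ((EtCoh.bc f).obj V) _

/-- If `R^q f_*` kills `ℓ`-primary torsion sheaves for `q > 0`, then `cd_ℓ(X) ≤ cd_ℓ(Y)`. -/
theorem cohDimLEAt_of_relCohDimLE_zero {ℓ : ℕ} (hℓ : ℓ ≠ 0) (f : X ⟶ Y) [QuasiCompact f]
    (hf : EtCoh.RelCohDimLE f 0) (d : ℕ) (h : Dix.CohDimLEAt Y ℓ d) : Dix.CohDimLEAt X ℓ d := by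
  intro F hF n hn
  refine CdEtLeray.H_subsingleton_of_leray f F n (h _ (isPrimaryTorsion_push f F hF) n hn)
    fun p q hpq => ?_
  exact CdEtLeray.H_subsingleton_of_isZero
    (hf F (isTorsion_of_isPrimaryTorsion hℓ hF) (q + 1) (Nat.succ_pos q)) p

/-- **Algebraic extensions do not increase the `ℓ`-cohomological dimension.** -/
theorem cohDimLEAt_of_algebraic (K L : Type u) [Field K] [Field L] [Algebra K L]
    [Algebra.IsAlgebraic K L] {ℓ : ℕ} (hℓ : ℓ ≠ 0) (d : ℕ)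
    (h : Dix.CohDimLEAt (Spec (CommRingCat.of K)) ℓ d) :
    Dix.CohDimLEAt (Spec (CommRingCat.of L)) ℓ d :=
  cohDimLEAt_of_relCohDimLE_zero hℓ (Spec.map (CommRingCat.ofHom (algebraMap K L)))
    (CdRel.relCohDimLE_zero K L) d h

/-- Invariance of `CohDimLEAt` of fields under ring isomorphisms. -/
theorem cohDimLEAt_of_ringEquiv {K L : Type u} [Field K] [Field L] (e : K ≃+* L) {ℓ : ℕ}
    (hℓ : ℓ ≠ 0) (d : ℕ) (h : Dix.CohDimLEAt (Spec (CommRingCat.of K)) ℓ d) :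
    Dix.CohDimLEAt (Spec (CommRingCat.of L)) ℓ d := by
  let _ : Algebra K L := (e : K →+* L).toAlgebra
  have : Algebra.IsAlgebraic K L := by
    refine ⟨fun x => ?_⟩
    obtain ⟨y, rfl⟩ := e.surjective x
    exact isAlgebraic_algebraMap (R := K) (A := L) y
  exact cohDimLEAt_of_algebraic K L hℓ d h

end Groth.Agent.Etbc.H205.AlgExt
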