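import Mathlib.Algebra.Order.Ring.Cone
import Mathlib.Algebra.Order.Ring.Ordering.Basic
import Mathlib.Algebra.Ring.SumsOfSquares
import Mathlib.Order.Zorn
import Mathlib.Tactic.FieldSimp
import Mathlib.Tactic.Ring
import Mathlib.Tactic.LinearCombination
import Mathlib.Algebra.Order.Ring.Basic
import Mathlib.Algebra.BigOperators.Fin

/-!
# Orderings of fields (Artin–Schreier)

A field in which `-1` is not a sum of squares admits an ordering.
-/

set_option autoImplicit false

universe u

namespace Groth.Agent.Etbc.H205.Ordering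

variable {k : Type u} [Field k]

/-- Preorderings of a field, as subsemirings. -/
structure IsPre (P : Subsemiring k) : Prop where
  sq : ∀ x : k, x * x ∈ P
  neg_one : (-1 : k) ∉ P

theorem exists_maximal (P₀ : Subsemiring k) (h₀ : IsPre P₀) :
    ∃ P : Subsemiring k, IsPre P ∧ ∀ P' : Subsemiring k, IsPre P' → P ≤ P' → P' = P := by
  obtain ⟨P, -, hP⟩ := zorn_le_nonempty₀ {P : Subsemiring k | IsPre P} (by
    intro c hc hchain y hy
    refine ⟨sSup c, ?_, fun z hz => le_sSup hz⟩
    have hdir : DirectedOn (· ≤ ·) c := hchain.directedOn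
    refine ⟨fun x => (Subsemiring.mem_sSup_of_directedOn ⟨y, hy⟩ hdir).2 ⟨y, hy, (hc hy).sq x⟩, ?_⟩
    intro h
    obtain ⟨z, hz, h1⟩ := (Subsemiring.mem_sSup_of_directedOn ⟨y, hy⟩ hdir).1 h
    exact (hc hz).neg_one h1) P₀ h₀
  exact ⟨P, hP.prop, fun P' h' hle => le_antisymm (hP.le_of_ge h' hle) hle⟩

theorem inv_mem {P : Subsemiring k} (h : IsPre P) {b : k} (hb : b ∈ P) : b⁻¹ ∈ P := by
  by_cases hb0 : b = 0
  · rw [hb0, inv_zero]; exact zero_mem P
  · have h1 : b⁻¹ = b * (b⁻¹ * b⁻¹) := by field_simp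
    rw [h1]
    exact mul_mem hb (h.sq _)

/-- Adjoining an element to a preordering. -/
def adj (P : Subsemiring k) (hsq : ∀ x : k, x * x ∈ P) (y : k) : Subsemiring k where
  carrier := {z | ∃ a ∈ P, ∃ b ∈ P, z = a + b * y}
  mul_mem' := by
    rintro _ _ ⟨a, ha, b, hb, rfl⟩ ⟨c, hc, d, hd, rfl⟩
    refine ⟨a * c + b * d * (y * y), add_mem (mul_mem ha hc) (mul_mem (mul_mem hb hd) (hsq y)),
      a * d + b * c, add_mem (mul_mem ha hd) (mul_mem hb hc), by ring⟩
  one_mem' := ⟨1, one_mem P, 0, zero_mem P, by ring⟩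
  add_mem' := by
    rintro _ _ ⟨a, ha, b, hb, rfl⟩ ⟨c, hc, d, hd, rfl⟩
    exact ⟨a + c, add_mem ha hc, b + d, add_mem hb hd, by ring⟩
  zero_mem' := ⟨0, zero_mem P, 0, zero_mem P, by ring⟩

theorem mem_or_neg_mem {P : Subsemiring k} (h : IsPre P)
    (hmax : ∀ P' : Subsemiring k, IsPre P' → P ≤ P' → P' = P) (x : k) : x ∈ P ∨ -x ∈ P := by
  by_cases hx : x ∈ P
  · exact Or.inl hx
  right
  have hle : P ≤ adj P h.sq (-x) := fun a ha => ⟨a, ha, 0, zero_mem P, by ring⟩
  have hpre : IsPre (adj P h.sq (-x)) := by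
    refine ⟨fun z => hle (h.sq z), ?_⟩
    rintro ⟨a, ha, b, hb, hab⟩
    by_cases hb0 : b = 0
    · apply h.neg_one
      rw [hab, hb0]
      simpa using ha
    · apply hx
      have h1 : x = (1 + a) * b⁻¹ := by
        field_simp
        linear_combination hab
      rw [h1]
      exact mul_mem (add_mem (one_mem P) ha) (inv_mem h hb)
  rw [← hmax _ hpre hle]
  exact ⟨0, zero_mem P, 1, one_mem P, by ring⟩

/-- The linear order attached to a maximal preordering. -/
theorem exists_order_of_maximal {P : Subsemiring k} (h : IsPre P)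
    (hmax : ∀ P' : Subsemiring k, IsPre P' → P ≤ P' → P' = P) :
    ∃ _ : LinearOrder k, IsStrictOrderedRing k := by
  classical
  let C : RingCone k :=
    { P with
      eq_zero_of_mem_of_neg_mem' := by
        intro a ha hna
        by_contra ha0
        apply h.neg_one
        have h1 : (-1 : k) = (-a) * a⁻¹ := by field_simp
        rw [h1]
        exact mul_mem hna (inv_mem h ha) }
  have hC : HasMemOrNegMem C := ⟨fun x => mem_or_neg_mem h hmax x⟩
  let o : LinearOrder k := LinearOrder.mkOfAddGroupCone C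
  refine ⟨o, ?_⟩
  have : IsOrderedRing k := IsOrderedRing.mkOfCone C
  infer_instance

/-- **Artin–Schreier**: a field in which `-1` is not a sum of squares has an ordering. -/
theorem exists_order (h : ¬ IsSumSq (-1 : k)) : ∃ _ : LinearOrder k, IsStrictOrderedRing k := by
  let P₀ : Subsemiring k := Subsemiring.sumSq k
  have h₀ : IsPre P₀ := ⟨fun x => Subsemiring.mem_sumSq.2 (IsSumSq.mul_self x),
    fun h' => h (Subsemiring.mem_sumSq.1 h')⟩
  obtain ⟨P, hP, hmax⟩ := exists_maximal P₀ h₀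
  exact exists_order_of_maximal hP hmax

/-- In a non-orderable field `-1` is a sum of squares. -/
theorem isSumSq_neg_one (h : ¬ ∃ _ : LinearOrder k, IsStrictOrderedRing k) :
    IsSumSq (-1 : k) := by
  by_contra hc
  exact h (exists_order hc)

/-- In an ordered field `-1` is not a sum of squares. -/
theorem not_isSumSq_neg_one (h : ∃ _ : LinearOrder k, IsStrictOrderedRing k) :
    ¬ IsSumSq (-1 : k) := by
  obtain ⟨o, ho⟩ := h
  intro hs
  have h1 : (0 : k) ≤ -1 := hs.nonneg
  have h2 : (0 : k) < 1 := zero_lt_one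
  have h3 : (-1 : k) < 0 := neg_lt_zero.2 h2
  exact absurd h1 (not_le.2 h3)

/-- A field is orderable iff `-1` is not a sum of squares. -/
theorem exists_order_iff :
    (∃ _ : LinearOrder k, IsStrictOrderedRing k) ↔ ¬ IsSumSq (-1 : k) :=
  ⟨not_isSumSq_neg_one, exists_order⟩

/-- `-1` is a finite sum of squares indexed by `Fin n`. -/
theorem exists_fin_sum {x : k} (h : IsSumSq x) : ∃ (n : ℕ) (f : Fin n → k), x = ∑ i, f i ^ 2 := by
  induction h with
  | zero => exact ⟨0, Fin.elim0, by simp⟩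
  | @sq_add a s hs ih =>
    obtain ⟨n, f, hf⟩ := ih
    refine ⟨n + 1, Fin.cons a f, ?_⟩
    rw [Fin.sum_univ_succ, hf]
    simp [sq]

end Groth.Agent.Etbc.H205.Ordering
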