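import Mathlib.RingTheory.KrullDimension.Basic
import Mathlib.RingTheory.Spectrum.Prime.Basic
import Mathlib.RingTheory.Ideal.MinimalPrime.Basic
import Mathlib.RingTheory.LocalRing.MaximalIdeal.Basic
import Mathlib.Order.KrullDimension
import Mathlib.Order.Cover

/-!
# Induction along a maximal chain of primes
-/

set_option autoImplicit false

universe u

namespace Groth.Agent.Etbc.H205.Chain

/-- A property `T P d` which passes from `P` to every adjacent larger prime `Q`, with `d` replaced
by `d - 1` (and `1 ≤ d`), passes from the minimal primes to the maximal ideal of a local ring `A`,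
with `d` replaced by `d - dim A`. -/
theorem chain (A : Type u) [CommRing A] [IsLocalRing A] (T : PrimeSpectrum A → ℕ → Prop)
    (hT : ∀ P Q : PrimeSpectrum A, P ⋖ Q → ∀ d, T P d → 1 ≤ d ∧ T Q (d - 1))
    (m : ℕ) (hm : ringKrullDim A = m) (d : ℕ)
    (hd : ∀ P : PrimeSpectrum A, P.asIdeal ∈ minimalPrimes A → T P d) :
    m ≤ d ∧ T ⟨IsLocalRing.maximalIdeal A, inferInstance⟩ (d - m) := by
  have hfin : FiniteDimensionalOrder (PrimeSpectrum A) := by
    apply Order.finiteDimensionalOrder_iff_krullDim_ne_bot_and_top.2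
    change ringKrullDim A ≠ ⊥ ∧ ringKrullDim A ≠ ⊤
    rw [hm]
    exact ⟨by simp, by
      intro h
      exact ENat.natCast_ne_top m (WithBot.coe_inj.1 h)⟩
  obtain ⟨p, hp⟩ : ∃ p : LTSeries (PrimeSpectrum A), p.length = m := by
    refine ⟨LTSeries.longestOf _, ?_⟩
    have h1 := Order.krullDim_eq_length_of_finiteDimensionalOrder (α := PrimeSpectrum A)
    change ringKrullDim A = _ at h1
    rw [hm] at h1
    exact_mod_cast h1.symm
  subst hp
  have hmax : ∀ q : LTSeries (PrimeSpectrum A), q.length ≤ p.length := by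
    intro q
    have h1 : (q.length : WithBot ℕ∞) ≤ ringKrullDim A := Order.LTSeries.length_le_krullDim q
    rw [hm] at h1
    exact_mod_cast h1
  -- the first element is minimal
  have h0 : p.head.asIdeal ∈ minimalPrimes A := by
    refine ⟨⟨p.head.isPrime, bot_le⟩, ?_⟩
    intro J hJ hle
    by_contra hcon
    let J' : PrimeSpectrum A := ⟨J, hJ.1⟩
    have hlt : J' < p.head := lt_of_le_not_ge hle hcon
    have h2 := hmax (p.cons J' hlt)
    simp at h2
  -- the last element is the closed point
  have h1 : p.last = ⟨IsLocalRing.maximalIdeal A, inferInstance⟩ := by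
    by_contra hcon
    have hlt : p.last < (⟨IsLocalRing.maximalIdeal A, inferInstance⟩ : PrimeSpectrum A) :=
      lt_of_le_of_ne (IsLocalRing.le_maximalIdeal p.last.isPrime.ne_top) hcon
    have h2 := hmax (p.snoc _ hlt)
    simp at h2
  have hcov : ∀ i : Fin p.length, p i.castSucc ⋖ p i.succ := by
    intro i
    refine ⟨p.step i, fun x h2 h3 => ?_⟩
    have h4 := hmax (p.insertNth i x h2 h3)
    simp at h4
  have key : ∀ i : ℕ, ∀ hi : i < p.length + 1, i ≤ d ∧ T (p ⟨i, hi⟩) (d - i) := by
    intro i
    induction i with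
    | zero =>
      intro hi
      exact ⟨Nat.zero_le _, hd p.head h0⟩
    | succ i ih =>
      intro hi
      obtain ⟨h2, h3⟩ := ih (by omega)
      obtain ⟨h4, h5⟩ := hT _ _ (hcov ⟨i, by omega⟩) _ h3
      refine ⟨by omega, ?_⟩
      rw [show d - (i + 1) = d - i - 1 by omega]
      exact h5
  obtain ⟨h2, h3⟩ := key p.length (by omega)
  refine ⟨h2, ?_⟩
  rw [← h1]
  exact h3

end Groth.Agent.Etbc.H205.Chain
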