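import Groth.Agent.Ega2.KrullAkizuki
import Groth.Agent.Ega2.DVRDominate
import Mathlib.RingTheory.KrullDimension.Basic
import Mathlib.RingTheory.KrullDimension.Field
import Mathlib.RingTheory.LocalRing.ResidueField.Instances

/-!
# One-dimensional Noetherian local domains are dominated by discrete valuation rings with finite
residue extension

`D` Noetherian local domain of dimension one with fraction field `K`: there is a discrete valuation
ring `V` of `K` dominating `D` whose residue field is finite over that of `D` (Krull–Akizuki).
-/

set_option autoImplicit false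

universe u

open IsLocalRing

namespace Groth.Agent.Etbc.H205.KA1

variable (D K : Type u) [CommRing D] [IsDomain D] [IsNoetherianRing D] [IsLocalRing D]
  [Field K] [Algebra D K] [IsFractionRing D K]

/-- **Krull–Akizuki** for one-dimensional Noetherian local domains. -/
theorem exists_dvr [Ring.KrullDimLE 1 D] (hmax : maximalIdeal D ≠ ⊥) :
    ∃ (V : Type u) (_ : CommRing V) (_ : IsDomain V) (_ : IsDiscreteValuationRing V)
      (_ : Algebra V K) (_ : IsFractionRing V K) (_ : Algebra D V) (_ : IsScalarTower D V K)
      (_ : IsLocalHom (algebraMap D V)),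
      Module.Finite (ResidueField D) (ResidueField V) := by
  obtain ⟨V, hV, hloc⟩ := IsLocalRing.exists_factor_valuationRing (algebraMap D K)
  let i : D →+* V := (algebraMap D K).codRestrict V.toSubring hV
  let _ : Algebra D V := i.toAlgebra
  have : IsScalarTower D V K := .of_algebraMap_eq fun _ => rfl
  have : IsLocalHom (algebraMap D V) := hloc
  have : IsNoetherianRing V := Groth.Agent.Ega2.KrullAkizuki.isNoetherianRing D K K
    (A := V) Subtype.val_injective
  obtain ⟨c, hc, hc0⟩ := Submodule.exists_mem_ne_zero_of_ne_bot hmax
  have hfield : ¬ IsField V := by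
    intro hf
    have h1 : algebraMap D V c ∈ maximalIdeal V := (IsLocalRing.mem_maximalIdeal _).2
      (map_nonunit (algebraMap D V) c hc)
    rw [IsLocalRing.isField_iff_maximalIdeal_eq.1 hf, Ideal.mem_bot] at h1
    refine hc0 (IsFractionRing.injective D K ?_)
    rw [IsScalarTower.algebraMap_apply D V K, h1, map_zero, map_zero]
  have hval : ValuationRing V := inferInstance
  have hdvr : IsDiscreteValuationRing V :=
    ((IsDiscreteValuationRing.TFAE V hfield).out 0 1).2 hval
  refine ⟨V, inferInstance, inferInstance, hdvr, inferInstance, inferInstance, inferInstance,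
    inferInstance, inferInstance, ?_⟩
  have h1 := Groth.Agent.Ega2.KrullAkizuki.isFiniteLength_quotient (R := D) (K := K) (L := K)
    (A := V) Subtype.val_injective c hc0
  have h2 : IsNoetherian D (V ⧸ Ideal.span {algebraMap D V c}) :=
    (isFiniteLength_iff_isNoetherian_isArtinian.1 h1).1
  have hle : Ideal.span {algebraMap D V c} ≤ maximalIdeal V := by
    rw [Ideal.span_singleton_le_iff_mem]
    exact (IsLocalRing.mem_maximalIdeal _).2 (map_nonunit (algebraMap D V) c hc)
  let π : (V ⧸ Ideal.span {algebraMap D V c}) →ₐ[D] (V ⧸ maximalIdeal V) :=
    Ideal.Quotient.factorₐ D hle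
  have hπ : Function.Surjective π := Ideal.Quotient.factor_surjective hle
  have h3 : Module.Finite D (V ⧸ maximalIdeal V) :=
    Module.Finite.of_surjective π.toLinearMap hπ
  have h4 : Module.Finite D (ResidueField V) := h3
  exact Module.Finite.of_restrictScalars_finite D (ResidueField D) (ResidueField V)

end Groth.Agent.Etbc.H205.KA1
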