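import Mathlib.RingTheory.KrullDimension.Basic
import Mathlib.RingTheory.LocalRing.ResidueField.Ideal
import Mathlib.RingTheory.Localization.FractionRing
import Mathlib.RingTheory.Localization.LocalizationLocalization
import Mathlib.RingTheory.Localization.Submodule
import Mathlib.RingTheory.Noetherian.Basic
import Mathlib.RingTheory.Ideal.Quotient.Noetherian
import Mathlib.RingTheory.Spectrum.Prime.Basic
import Mathlib.Order.Cover

/-!
# Adjacent primes and one-dimensional local domains

For adjacent primes `P ⋖ Q` of a ring `A` the localization of `A ⧸ P` at `Q / P` is a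
one-dimensional local domain with fraction field `Frac (A ⧸ P)` and residue field `Frac (A ⧸ Q)`.
-/

set_option autoImplicit false

universe u

open IsLocalRing

namespace Groth.Agent.Etbc.H205.Step

theorem exists_local (A : Type u) [CommRing A] [IsNoetherianRing A] (P Q : PrimeSpectrum A)
    (hPQ : P ⋖ Q) :
    ∃ (D : Type u) (_ : CommRing D) (_ : IsDomain D) (_ : IsNoetherianRing D) (_ : IsLocalRing D)
      (_ : Algebra D (FractionRing (A ⧸ P.asIdeal))) (_ : IsFractionRing D (FractionRing (A ⧸ P.asIdeal))),
      Ring.KrullDimLE 1 D ∧ maximalIdeal D ≠ ⊥ ∧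
      Nonempty (FractionRing (A ⧸ Q.asIdeal) ≃+* ResidueField D) := by
  let B := A ⧸ P.asIdeal
  let π : A →+* B := Ideal.Quotient.mk P.asIdeal
  have hle : P.asIdeal ≤ Q.asIdeal := PrimeSpectrum.asIdeal_le_asIdeal _ _ |>.2 hPQ.le
  have hπ : Function.Surjective π := Ideal.Quotient.mk_surjective
  let q : Ideal B := Q.asIdeal.map π
  have hq : q.IsPrime := Ideal.map_isPrime_of_surjective hπ (by rwa [Ideal.mk_ker])
  have hqQ : q.comap π = Q.asIdeal := by
    rw [Ideal.comap_map_of_surjective' π hπ, Ideal.mk_ker, sup_eq_left.2 hle]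
  let D := Localization.AtPrime q
  have hdom : IsDomain D := IsLocalization.isDomain_localization q.primeCompl_le_nonZeroDivisors
  let K := FractionRing B
  let g : D →+* K := IsLocalization.lift (M := q.primeCompl) (g := algebraMap B K) (fun y =>
    IsUnit.mk0 _ (fun h => y.2 (by
      have h1 : (y : B) = 0 := IsFractionRing.injective B K (h.trans (map_zero _).symm)
      rw [h1]; exact zero_mem q)))
  let _ : Algebra D K := g.toAlgebra
  have : IsScalarTower B D K := .of_algebraMap_eq fun b => by
    change _ = g (algebraMap B D b)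
    rw [IsLocalization.lift_eq]
  have hfr : IsFractionRing D K :=
    IsFractionRing.isFractionRing_of_isDomain_of_isLocalization q.primeCompl D K
  have hnB : IsNoetherianRing B := inferInstanceAs (IsNoetherianRing (A ⧸ P.asIdeal))
  have hnD : IsNoetherianRing D := IsLocalization.isNoetherianRing q.primeCompl D hnB
  refine ⟨D, inferInstance, hdom, hnD, inferInstance, inferInstance, hfr, ?_, ?_, ?_⟩
  · rw [Ring.krullDimLE_one_iff_of_noZeroDivisors]
    intro I hI0 hI
    have hJ : ((I.comap (algebraMap B D)).comap π).IsPrime := inferInstance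
    let J : PrimeSpectrum A := ⟨(I.comap (algebraMap B D)).comap π, hJ⟩
    have hPJ : P ≤ J := by
      rw [← PrimeSpectrum.asIdeal_le_asIdeal]
      intro x hx
      change algebraMap B D (π x) ∈ I
      rw [show π x = 0 from Ideal.Quotient.eq_zero_iff_mem.2 hx, map_zero]
      exact zero_mem I
    have hIq : I.comap (algebraMap B D) ≤ q := by
      intro b hb
      exact (IsLocalization.AtPrime.to_map_mem_maximal_iff D q b).1
        (IsLocalRing.le_maximalIdeal hI.ne_top hb)
    have hJQ : J ≤ Q := by
      rw [← PrimeSpectrum.asIdeal_le_asIdeal, ← hqQ]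
      exact Ideal.comap_mono hIq
    rcases hPQ.eq_or_eq hPJ hJQ with h | h
    · exfalso
      apply hI0
      rw [eq_bot_iff, ← IsLocalization.map_under q.primeCompl D I]
      rw [Ideal.map_le_iff_le_comap]
      intro b hb
      obtain ⟨a, rfl⟩ := hπ b
      have h1 : a ∈ P.asIdeal := by
        rw [← h]
        exact hb
      change algebraMap B D (π a) ∈ (⊥ : Ideal D)
      rw [show π a = 0 from Ideal.Quotient.eq_zero_iff_mem.2 h1, map_zero]
      exact zero_mem _
    · have h1 : I.comap (algebraMap B D) = q := by
        apply le_antisymm hIq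
        intro b hb
        obtain ⟨a, rfl⟩ := hπ b
        have h2 : a ∈ Q.asIdeal := by
          rw [← hqQ]
          exact hb
        rw [← h] at h2
        exact h2
      have h2 : I = maximalIdeal D := by
        rw [← IsLocalization.map_under q.primeCompl D I]
        refine (congrArg (Ideal.map (algebraMap B D)) h1).trans ?_
        exact Localization.AtPrime.map_eq_maximalIdeal
      rw [h2]
      infer_instance
  · intro h
    have h1 : Q.asIdeal ≤ P.asIdeal := by
      rw [← hqQ]
      intro a ha
      have h2 : algebraMap B D (π a) ∈ maximalIdeal D :=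
        (IsLocalization.AtPrime.to_map_mem_maximal_iff D q (π a)).2 ha
      rw [h, Ideal.mem_bot] at h2
      have h3 : π a = 0 := by
        apply IsLocalization.injective D q.primeCompl_le_nonZeroDivisors
        rw [h2, map_zero]
      exact Ideal.Quotient.eq_zero_iff_mem.1 h3
    exact hPQ.lt.not_ge ((PrimeSpectrum.asIdeal_le_asIdeal _ _).1 h1)
  · have hfq : IsFractionRing (B ⧸ q) q.ResidueField := inferInstance
    let e : (A ⧸ Q.asIdeal) ≃+* (B ⧸ q) :=
      (Ideal.quotEquivOfEq (by rw [sup_eq_right.2 hle])).trans
        (DoubleQuot.quotQuotEquivQuotSup P.asIdeal Q.asIdeal).symm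
    exact ⟨IsFractionRing.ringEquivOfRingEquiv (K := FractionRing (A ⧸ Q.asIdeal))
      (L := q.ResidueField) e⟩

end Groth.Agent.Etbc.H205.Step
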