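import Groth.Agent.Etbc.H205.Ordering
import Mathlib.FieldTheory.KummerExtension
import Mathlib.FieldTheory.PurelyInseparable.Exponent
import Mathlib.FieldTheory.PurelyInseparable.PerfectClosure
import Mathlib.FieldTheory.SeparableClosure
import Mathlib.FieldTheory.Normal.Closure
import Mathlib.FieldTheory.IsAlgClosed.AlgebraicClosure
import Mathlib.GroupTheory.Sylow
import Mathlib.GroupTheory.IndexNormal
import Mathlib.RingTheory.ZMod.UnitsCyclic
import Mathlib.NumberTheory.Cyclotomic.Gal
import Mathlib.RingTheory.RootsOfUnity.AlgebraicallyClosed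

/-!
# The field theory of Serre's theorem on cohomological dimension

Let `P` be a property of fields (`Type u`) such that

* `P` is invariant under isomorphisms and passes to algebraic extensions;
* `P E → P F` for `E/F` finite separable of degree prime to `ℓ`;
* `P E → P F` whenever `F ⊆ E ⊆ M`, `M/F` cyclic of degree `ℓ²`, `[E : F] = ℓ`, `ℓ ≠ 0` in `F`.

Then `P k' → P k` for every finite extension `k'/k` with `ℓ ≠ 0` in `k`, except if `ℓ = 2` and `k` can be ordered.
-/

set_option autoImplicit false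
set_option linter.unusedSectionVars false
universe u

open Module IntermediateField Polynomial

namespace Groth.Agent.Etbc.H205.SerreField

/-- The closure properties of the class of fields of `ℓ`-cohomological dimension at most `d`. -/
structure Ax (ℓ : ℕ) (P : ∀ (F : Type u) [Field F], Prop) : Prop where
  iso : ∀ (E F : Type u) [Field E] [Field F] (_ : E ≃+* F), P E → P F
  up : ∀ (F E : Type u) [Field F] [Field E] [Algebra F E] [Algebra.IsAlgebraic F E], P F → P E
  down : ∀ (F E : Type u) [Field F] [Field E] [Algebra F E] [FiniteDimensional F E]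
    [Algebra.IsSeparable F E], ¬ ℓ ∣ finrank F E → P E → P F
  cyclic : ∀ (F M : Type u) [Field F] [Field M] [Algebra F M] [FiniteDimensional F M] [IsGalois F M]
    [IsCyclic Gal(M/F)], (ℓ : F) ≠ 0 → finrank F M = ℓ ^ 2 →
    ∀ E : IntermediateField F M, finrank F E = ℓ → P E → P F

variable {ℓ : ℕ} {P : ∀ (F : Type u) [Field F], Prop}

section general

/-- Descent along finite purely inseparable extensions: Frobenius. -/
theorem Ax.of_isPurelyInseparable (h : Ax ℓ P) (F E : Type u) [Field F] [Field E] [Algebra F E]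
    [FiniteDimensional F E] [IsPurelyInseparable F E] (hE : P E) : P F := by
  obtain ⟨p, hp⟩ := ExpChar.exists F
  let φ : E →+* F := IsPurelyInseparable.iterateFrobenius F E p
    (le_refl (IsPurelyInseparable.exponent F E))
  let _ : Algebra E F := φ.toAlgebra
  have : Algebra.IsAlgebraic E F := by
    refine ⟨fun y => ?_⟩
    refine IsIntegral.isAlgebraic (IsIntegral.of_pow (n := p ^ IsPurelyInseparable.exponent F E)
      (expChar_pow_pos F p _) ?_)
    have : y ^ p ^ IsPurelyInseparable.exponent F E = algebraMap E F (algebraMap F E y) :=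
      (IsPurelyInseparable.iterateFrobenius_algebraMap E p
        (le_refl (IsPurelyInseparable.exponent F E)) y).symm
    rw [this]
    exact isIntegral_algebraMap
  exact h.up E F hE

/-- `C(F)`: some finite extension of `F` has the property. -/
def Virt (P : ∀ (F : Type u) [Field F], Prop) (F : Type u) [Field F] : Prop :=
  ∃ (E : Type u) (_ : Field E) (_ : Algebra F E) (_ : FiniteDimensional F E), P E

theorem Ax.virt (h : Ax ℓ P) (F L : Type u) [Field F] [Field L] [Algebra F L] [FiniteDimensional F L]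
    (hF : Virt P F) : Virt P L := by
  obtain ⟨E, _, _, _, hE⟩ := hF
  let Ω := AlgebraicClosure L
  let f : E →ₐ[F] Ω := IsAlgClosed.lift
  let M : IntermediateField L Ω := IntermediateField.adjoin L (Set.range f)
  have hfin : FiniteDimensional L M := by
    have hb : (Module.finBasis F E).1 = (Module.finBasis F E).1 := rfl
    let b := Module.finBasis F E
    have hM : M = IntermediateField.adjoin L (Set.range fun i => f (b i)) := by
      apply le_antisymm
      · rw [IntermediateField.adjoin_le_iff]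
        rintro _ ⟨x, rfl⟩
        rw [← b.sum_repr x, map_sum]
        refine sum_mem fun i _ => ?_
        rw [map_smul, Algebra.smul_def, IsScalarTower.algebraMap_apply F L Ω]
        exact mul_mem (IntermediateField.algebraMap_mem _ _)
          (IntermediateField.subset_adjoin L _ ⟨i, rfl⟩)
      · apply IntermediateField.adjoin.mono
        rintro _ ⟨i, rfl⟩
        exact ⟨b i, rfl⟩
    rw [hM]
    refine IntermediateField.finiteDimensional_adjoin (S := Set.range fun i => f (b i)) fun x _ => ?_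
    exact (Algebra.IsAlgebraic.isAlgebraic x).isIntegral
  let g : E →+* M := (f : E →+* Ω).codRestrict M.toSubfield.toSubring (fun x =>
    IntermediateField.subset_adjoin L _ ⟨x, rfl⟩)
  let _ : Algebra E M := g.toAlgebra
  have htow : IsScalarTower F E M := IsScalarTower.of_algebraMap_eq fun x => by
    apply Subtype.ext
    change algebraMap F Ω x = f (algebraMap F E x)
    rw [f.commutes]
  have : FiniteDimensional F M := Module.Finite.trans L M
  have : Algebra.IsAlgebraic F M := inferInstance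
  have : Algebra.IsAlgebraic E M := Algebra.IsAlgebraic.tower_top (K := F) E
  exact ⟨M, inferInstance, inferInstance, hfin, h.up E M hE⟩

end general

section galois

variable [hℓ : Fact ℓ.Prime]

/-- Galois `ℓ`-extensions are towers of Galois extensions of degree `ℓ`. -/
theorem Ax.of_galois_pow (h : Ax ℓ P) (R : ∀ (F : Type u) [Field F], Prop)
    (hR : ∀ (F E : Type u) [Field F] [Field E] [Algebra F E] [FiniteDimensional F E], R F → R E)
    (step : ∀ (F E : Type u) [Field F] [Field E] [Algebra F E] [FiniteDimensional F E] [IsGalois F E],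
      finrank F E = ℓ → R F → P E → P F) (n : ℕ) :
    ∀ (F N : Type u) [Field F] [Field N] [Algebra F N] [FiniteDimensional F N] [IsGalois F N],
      finrank F N = ℓ ^ n → R F → P N → P F := by
  induction n with
  | zero =>
    intro F N _ _ _ _ _ hn _ hN
    rw [pow_zero] at hn
    have h1 : Function.Bijective (algebraMap F N) := by
      have := (Subalgebra.bot_eq_top_iff_finrank_eq_one (F := F) (E := N)).mpr hn
      exact ⟨(algebraMap F N).injective, fun x => by
        have hx : x ∈ (⊤ : Subalgebra F N) := trivial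
        rw [← this, Algebra.mem_bot] at hx
        exact hx⟩
    exact h.iso N F (RingEquiv.ofBijective _ h1).symm hN
  | succ n ih =>
    intro F N _ _ _ _ _ hn hF hN
    have hcard : Nat.card Gal(N/F) = ℓ ^ (n + 1) := by rw [IsGalois.card_aut_eq_finrank, hn]
    obtain ⟨H, hH⟩ := Sylow.exists_subgroup_card_pow_prime (G := Gal(N/F)) ℓ (n := n)
      (by rw [hcard]; exact pow_dvd_pow _ (Nat.le_succ n))
    have hidx : H.index = ℓ := by
      have h1 := H.card_mul_index
      rw [hcard, hH, pow_succ] at h1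
      exact Nat.eq_of_mul_eq_mul_left (pow_pos hℓ.out.pos n) h1
    have hnorm : H.Normal := by
      apply Subgroup.normal_of_index_eq_minFac_card
      rw [hidx, hcard, Nat.Prime.pow_minFac hℓ.out (Nat.succ_ne_zero n)]
    let E := fixedField H
    have h2 : finrank E N = ℓ ^ n := by rw [finrank_fixedField_eq_card, hH]
    have h3 : finrank F E = ℓ := by
      have := Module.finrank_mul_finrank F E N
      rw [h2, hn, pow_succ', ] at this
      exact Nat.eq_of_mul_eq_mul_right (pow_pos hℓ.out.pos n) this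
    exact step F E h3 hF (ih E N h2 (hR F E hF) hN)

/-- Reduction of finite extensions to Galois extensions of degree `ℓ`. -/
theorem Ax.reduce (h : Ax ℓ P) (R : ∀ (F : Type u) [Field F], Prop)
    (hR : ∀ (F E : Type u) [Field F] [Field E] [Algebra F E] [FiniteDimensional F E], R F → R E)
    (step : ∀ (F E : Type u) [Field F] [Field E] [Algebra F E] [FiniteDimensional F E] [IsGalois F E],
      finrank F E = ℓ → R F → P E → P F) (F : Type u) [Field F] (hF : R F) (hV : Virt P F) : P F := by
  obtain ⟨E, _, _, _, hE⟩ := hV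
  let Es := separableClosure F E
  have hEs : P Es := h.of_isPurelyInseparable Es E hE
  let f₀ : Es →ₐ[F] SeparableClosure F := IsSepClosed.lift
  let _ : Algebra Es (SeparableClosure F) := f₀.toRingHom.toAlgebra
  have : IsScalarTower F Es (SeparableClosure F) := IsScalarTower.of_algebraMap_eq fun x =>
    (f₀.commutes x).symm
  let N := normalClosure F Es (SeparableClosure F)
  have hgal : IsGalois F N := IsGalois.normalClosure F Es (SeparableClosure F)
  have hfin : FiniteDimensional F N := normalClosure.is_finiteDimensional F Es (SeparableClosure F)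
  have hNE : Algebra.IsAlgebraic Es N := Algebra.IsAlgebraic.tower_top (K := F) Es
  have hN : P N := h.up Es N hEs
  let S : Sylow ℓ Gal(N/F) := default
  let F₁ := fixedField (S : Subgroup Gal(N/F))
  have h1 : finrank F₁ N = Nat.card S := finrank_fixedField_eq_card _
  obtain ⟨n, hn⟩ := IsPGroup.iff_card.mp S.isPGroup'
  have h2 : P F₁ := h.of_galois_pow R hR step n F₁ N (h1.trans hn) (hR F F₁ hF) hN
  refine h.down F F₁ ?_ h2
  have h3 : finrank F F₁ = (S : Subgroup Gal(N/F)).index := by
    have h4 := Module.finrank_mul_finrank F F₁ N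
    have h5 := (S : Subgroup Gal(N/F)).card_mul_index
    rw [IsGalois.card_aut_eq_finrank, ← h4, h1, mul_comm (finrank F F₁)] at h5
    exact (Nat.eq_of_mul_eq_mul_left Nat.card_pos h5).symm
  rw [h3]
  exact S.not_dvd_index

/-- The cyclic axiom for an abstract subextension. -/
theorem Ax.of_cyclic_sq (h : Ax ℓ P) (F M E : Type u) [Field F] [Field M] [Field E] [Algebra F M] [Algebra F E]
    [FiniteDimensional F M] [IsGalois F M] [IsCyclic Gal(M/F)] (hℓF : (ℓ : F) ≠ 0)
    (hM : finrank F M = ℓ ^ 2) (g : E →ₐ[F] M) (hE : finrank F E = ℓ) (hPE : P E) : P F := by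
  let e : E ≃ₐ[F] g.fieldRange := AlgEquiv.ofInjectiveField g
  refine h.cyclic F M hℓF hM g.fieldRange ?_ (h.iso E g.fieldRange e.toRingEquiv hPE)
  rw [← hE]
  exact e.symm.toLinearEquiv.finrank_eq

/-- `X ^ 4 - a` is irreducible if `a` is not a square and `-1` is a square. -/
theorem irreducible_X_pow_four {F : Type u} [Field F] {ζ a : F} (hζ : ζ ^ 2 = -1)
    (ha : ∀ b : F, b ^ 2 ≠ a) : Irreducible (X ^ 4 - C a : F[X]) := by
  have h2 := X_pow_sub_C_irreducible_of_prime Nat.prime_two ha
  refine X_pow_mul_sub_C_irreducible (n := 2) (m := 2) h2 ?_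
  intro E _ _ x hx
  have hxi : IsIntegral F x := not_not.mp fun h ↦ by
    simpa only [degree_zero, degree_X_pow_sub_C two_pos,
      WithBot.natCast_ne_bot] using congr_arg degree (hx.symm.trans (dif_neg h))
  apply X_pow_sub_C_irreducible_of_prime Nat.prime_two
  intro b hb
  apply ha (ζ * Algebra.norm F b)
  rw [mul_pow, hζ, ← map_pow, hb, ← adjoin.powerBasis_gen hxi,
    Algebra.PowerBasis.norm_gen_eq_coeff_zero_minpoly]
  simp [minpoly_gen, hx]

/-- Kummer case: `F` contains a primitive `ℓ²`-th root of unity. -/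
theorem Ax.of_primitive (h : Ax ℓ P) (F : Type u) [Field F]
    (hζ : ∃ ζ : F, IsPrimitiveRoot ζ (ℓ ^ 2)) (hℓF : (ℓ : F) ≠ 0) (hV : Virt P F) : P F := by
  refine h.reduce (fun F _ => (∃ ζ : F, IsPrimitiveRoot ζ (ℓ ^ 2)) ∧ (ℓ : F) ≠ 0) ?_ ?_ F ⟨hζ, hℓF⟩ hV
  · rintro F E _ _ _ _ ⟨⟨ζ, hζ⟩, h1⟩
    refine ⟨⟨algebraMap F E ζ, hζ.map_of_injective (algebraMap F E).injective⟩, ?_⟩
    rw [← map_natCast (algebraMap F E)]
    exact (_root_.map_ne_zero _).mpr h1
  · rintro F E _ _ _ _ _ hE ⟨⟨ζ, hζ⟩, hℓF⟩ hPE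
    have hcyc : IsCyclic Gal(E/F) := isCyclic_of_prime_card (p := ℓ) (by
      rw [IsGalois.card_aut_eq_finrank, hE])
    have hζ1 : IsPrimitiveRoot (ζ ^ ℓ) ℓ := hζ.pow (pow_pos hℓ.out.pos 2) (pow_two ℓ)
    have hK : (primitiveRoots (finrank F E) F).Nonempty :=
      ⟨ζ ^ ℓ, (mem_primitiveRoots finrank_pos).mpr (by rw [hE]; exact hζ1)⟩
    obtain ⟨α, ⟨a, ha⟩, hα⟩ := exists_root_adjoin_eq_top_of_isCyclic F E hK
    have hirr := irreducible_X_pow_sub_C_of_root_adjoin_eq_top ha.symm hα
    have hsplit := isSplittingField_X_pow_sub_C_of_root_adjoin_eq_top hK ha.symm hα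
    rw [hE] at ha hirr hK hsplit
    have hna : ∀ b : F, b ^ ℓ ≠ a := pow_ne_of_irreducible_X_pow_sub_C hirr dvd_rfl hℓ.out.ne_one
    have H : Irreducible (X ^ (ℓ ^ 2) - C a : F[X]) := by
      by_cases h2 : ℓ = 2
      · subst h2
        have h4 : (ζ ^ 2) ^ 2 = 1 := by rw [← pow_mul]; exact hζ.pow_eq_one
        have h5 : ζ ^ 2 = -1 := by
          rcases sq_eq_one_iff.mp h4 with h6 | h6
          · exact absurd h6 (hζ.pow_ne_one_of_pos_of_lt two_ne_zero (by norm_num))
          · exact h6
        exact irreducible_X_pow_four h5 hna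
      · exact X_pow_sub_C_irreducible_of_prime_pow hℓ.out h2 2 hna
    have hK2 : (primitiveRoots (ℓ ^ 2) F).Nonempty :=
      ⟨ζ, (mem_primitiveRoots (pow_pos hℓ.out.pos 2)).mpr hζ⟩
    have := Fact.mk H
    have hneZ : NeZero (ℓ ^ 2) := ⟨(pow_pos hℓ.out.pos 2).ne'⟩
    let M := AdjoinRoot (X ^ (ℓ ^ 2) - C a : F[X])
    have hsp : IsSplittingField F M (X ^ (ℓ ^ 2) - C a : F[X]) := isSplittingField_AdjoinRoot_X_pow_sub_C hK2 H
    have hfd : FiniteDimensional F M := Polynomial.IsSplittingField.finiteDimensional M (X ^ (ℓ ^ 2) - C a)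
    have hgal : IsGalois F M := isGalois_of_isSplittingField_X_pow_sub_C hK2 H M
    have hcyc2 : IsCyclic Gal(M/F) := isCyclic_of_isSplittingField_X_pow_sub_C hK2 H M
    have hM : finrank F M = ℓ ^ 2 := finrank_of_isSplittingField_X_pow_sub_C hK2 H M
    have hroot : (AdjoinRoot.root (X ^ (ℓ ^ 2) - C a : F[X])) ^ (ℓ ^ 2) = algebraMap F M a := by
      have := AdjoinRoot.eval₂_root (X ^ (ℓ ^ 2) - C a : F[X])
      rw [eval₂_sub, eval₂_X_pow, eval₂_C, sub_eq_zero] at this
      exact this
    let g₀ : AdjoinRoot (X ^ ℓ - C a : F[X]) →ₐ[F] M :=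
      AdjoinRoot.liftAlgHom (X ^ ℓ - C a) (Algebra.ofId F M) ((AdjoinRoot.root (X ^ (ℓ ^ 2) - C a : F[X])) ^ ℓ) (by
        rw [eval₂_sub, eval₂_X_pow, eval₂_C, sub_eq_zero, ← pow_mul, ← pow_two, hroot]
        rfl)
    let g : E →ₐ[F] M := g₀.comp (adjoinRootXPowSubCEquiv hK hirr ha.symm).symm.toAlgHom
    exact h.of_cyclic_sq F M E hℓF hM g hE hPE

end galois

section quartic

/-- Quadratic extensions, with their mapping property. -/
theorem exists_quadratic (K : Type u) [Field K] (b : K) (hb : ∀ c : K, c ^ 2 ≠ b) :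
    ∃ (E : Type u) (_ : Field E) (_ : Algebra K E) (_ : FiniteDimensional K E) (s : E),
      finrank K E = 2 ∧ s ^ 2 = algebraMap K E b ∧
      (∀ (L : Type u) [Field L] (i : K →+* L) (t : L), t ^ 2 = i b →
        ∃ τ : E →+* L, τ.comp (algebraMap K E) = i ∧ τ s = t) ∧
      (∀ (L : Type u) [Field L] (f g : E →+* L),
        f.comp (algebraMap K E) = g.comp (algebraMap K E) → f s = g s → f = g) := by
  have hirr : Irreducible (X ^ 2 - C b : K[X]) := X_pow_sub_C_irreducible_of_prime Nat.prime_two hb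
  have := Fact.mk hirr
  have hmon : (X ^ 2 - C b : K[X]).Monic := monic_X_pow_sub_C b two_ne_zero
  refine ⟨AdjoinRoot (X ^ 2 - C b : K[X]), inferInstance, inferInstance, hmon.finite_adjoinRoot,
    AdjoinRoot.root _, ?_, ?_, ?_, ?_⟩
  · have h := (AdjoinRoot.powerBasis' hmon).finrank
    rw [AdjoinRoot.powerBasis'_dim, natDegree_X_pow_sub_C] at h
    exact h
  · have := AdjoinRoot.eval₂_root (X ^ 2 - C b : K[X])
    rw [eval₂_sub, eval₂_X_pow, eval₂_C, sub_eq_zero] at this
    exact this
  · intro L _ i t ht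
    refine ⟨AdjoinRoot.lift i t ?_, ?_, ?_⟩
    · rw [eval₂_sub, eval₂_X_pow, eval₂_C, ht, sub_self]
    · exact AdjoinRoot.lift_comp_of _
    · exact AdjoinRoot.lift_root _
  · intro L _ f g h1 h2
    exact AdjoinRoot.ringHom_ext h1 h2

/-- `a + s` is not a square in `F(s)`, `s² = a = 1 + y²`. -/
theorem not_sq_add {F E : Type u} [Field F] [Field E] [Algebra F E] (σ : E →+* E)
    (hσF : ∀ x : F, σ (algebraMap F E x) = algebraMap F E x) (hσσ : ∀ x : E, σ (σ x) = x) (s : E)
    (hσs : σ s = -s) (y a : F) (ha : a = 1 + y ^ 2) (hs : s ^ 2 = algebraMap F E a) (h2E : (2 : E) ≠ 0)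
    (hs0 : s ≠ 0) (hyE : algebraMap F E y ≠ 0) (b : E) : b ^ 2 ≠ algebraMap F E a + s := by
  have haa : algebraMap F E a = 1 + algebraMap F E y ^ 2 := by rw [ha, map_add, map_one, map_pow]
  intro hb
  have h1 : (b * σ b) ^ 2 = (s * algebraMap F E y) ^ 2 := by
    rw [mul_pow, ← map_pow, hb, map_add, hσF, hσs]
    linear_combination (-1 - algebraMap F E y ^ 2) * hs + algebraMap F E a * haa
  have h3 : σ (b * σ b) = b * σ b := by rw [map_mul, hσσ, mul_comm]
  have h4 : σ (s * algebraMap F E y) = - (s * algebraMap F E y) := by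
    rw [map_mul, hσs, hσF]; ring
  have h5 : 2 * (s * algebraMap F E y) = 0 := by
    rcases sq_eq_sq_iff_eq_or_eq_neg.mp h1 with h6 | h6
    · rw [h6, h4] at h3
      linear_combination -h3
    · rw [h6, map_neg, h4] at h3
      linear_combination h3
  rcases mul_eq_zero.mp h5 with h | h
  · exact h2E h
  · rcases mul_eq_zero.mp h with h | h
    · exact hs0 h
    · exact hyE h

/-- The cyclic extension of degree four `F(√(a + √a))`, `a = 1 + y²` not a square. -/
theorem exists_quartic (F : Type u) [Field F] (h2 : (2 : F) ≠ 0) (y a : F) (ha : a = 1 + y ^ 2)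
    (hna : ∀ b : F, b ^ 2 ≠ a) :
    ∃ (E M : Type u) (_ : Field E) (_ : Field M) (_ : Algebra F E) (_ : Algebra F M)
      (_ : FiniteDimensional F E) (_ : FiniteDimensional F M) (_ : IsGalois F M)
      (_ : IsCyclic Gal(M/F)) (_ : E →ₐ[F] M),
      finrank F E = 2 ∧ finrank F M = 2 ^ 2 ∧ ∃ s : E, s ^ 2 = algebraMap F E a := by
  have hy : y ≠ 0 := by
    rintro rfl
    exact hna 1 (by rw [ha]; ring)
  have ha0 : a ≠ 0 := by
    rintro h0
    exact hna 0 (by rw [h0]; ring)
  obtain ⟨E, _, _, hfdE, s, hE, hs, hliftE, hextE⟩ := exists_quadratic F a hna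
  have hinjE : Function.Injective (algebraMap F E) := (algebraMap F E).injective
  have hs0 : s ≠ 0 := by
    intro h0
    rw [h0] at hs
    have : algebraMap F E a = algebraMap F E 0 := by rw [← hs, map_zero]; ring
    exact ha0 (hinjE this)
  have h2E : (2 : E) ≠ 0 := by
    intro h0
    apply h2
    apply hinjE
    rw [map_zero, map_ofNat]
    exact h0
  have hyE : algebraMap F E y ≠ 0 := fun h0 => hy (hinjE (by rw [h0, map_zero]))
  -- the conjugation
  obtain ⟨σ, hσ, hσs⟩ := hliftE E (algebraMap F E) (-s) (by rw [neg_sq, hs])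
  have hσF : ∀ x : F, σ (algebraMap F E x) = algebraMap F E x := fun x => RingHom.congr_fun hσ x
  have hσσ : ∀ x : E, σ (σ x) = x := by
    have : σ.comp σ = RingHom.id E := by
      apply hextE
      · rw [RingHom.comp_assoc, hσ, hσ, RingHom.id_comp]
      · change σ (σ s) = s
        rw [hσs, map_neg, hσs, neg_neg]
    intro x
    exact RingHom.congr_fun this x
  have hnb : ∀ b : E, b ^ 2 ≠ algebraMap F E a + s :=
    not_sq_add σ hσF hσσ s hσs y a ha hs h2E hs0 hyE
  obtain ⟨M, _, _, hfdM, θ, hEM, hθ, hliftM, hextM⟩ := exists_quadratic E (algebraMap F E a + s) hnb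
  let _ : Algebra F M := ((algebraMap E M).comp (algebraMap F E)).toAlgebra
  have : IsScalarTower F E M := IsScalarTower.of_algebraMap_eq' rfl
  have hfdFM : FiniteDimensional F M := Module.Finite.trans E M
  have hFM : finrank F M = 2 ^ 2 := by
    rw [← Module.finrank_mul_finrank F E M, hE, hEM]; rfl
  have hinjM : Function.Injective (algebraMap E M) := (algebraMap E M).injective
  have hFEM : ∀ x : F, algebraMap F M x = algebraMap E M (algebraMap F E x) := fun x =>
    IsScalarTower.algebraMap_apply F E M x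
  rw [map_add] at hθ
  have hθ0 : θ ≠ 0 := by
    intro h0
    rw [h0, ← map_add] at hθ
    have : algebraMap F E a + s = 0 := hinjM (by rw [← hθ, map_zero]; ring)
    exact hnb 0 (by rw [this]; ring)
  have hsM : algebraMap E M s ≠ 0 := fun h0 => hs0 (hinjM (by rw [h0, map_zero]))
  have hyM : algebraMap E M (algebraMap F E y) ≠ 0 := fun h0 => hyE (hinjM (by rw [h0, map_zero]))
  have h2M : (2 : M) ≠ 0 := by
    intro h0
    apply h2E
    apply hinjM
    rw [map_zero, map_ofNat]
    exact h0
  have hsM2 : algebraMap E M s ^ 2 = algebraMap E M (algebraMap F E a) := by rw [← map_pow, hs]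
  have haM : algebraMap E M (algebraMap F E a) = 1 + algebraMap E M (algebraMap F E y) ^ 2 := by
    rw [ha, map_add, map_add, map_one, map_one, map_pow, map_pow]
  obtain ⟨x, hxdef⟩ : ∃ x : M, x = algebraMap E M (algebraMap F E y) * algebraMap E M s * θ⁻¹ := ⟨_, rfl⟩
  have hxθ : x * θ = algebraMap E M (algebraMap F E y) * algebraMap E M s := by
    rw [hxdef, mul_assoc, inv_mul_cancel₀ hθ0, mul_one]
  have hx2 : x ^ 2 = algebraMap E M (algebraMap F E a) - algebraMap E M s := by
    have h1 : x ^ 2 * θ ^ 2 =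
        (algebraMap E M (algebraMap F E a) - algebraMap E M s) * θ ^ 2 := by
      rw [← mul_pow, hxθ, mul_pow, hθ]
      linear_combination (1 + algebraMap E M (algebraMap F E y) ^ 2) * hsM2 -
        algebraMap E M (algebraMap F E a) * haM
    exact mul_right_cancel₀ (pow_ne_zero 2 hθ0) h1
  obtain ⟨τ, hτ, hτθ⟩ := hliftM M ((algebraMap E M).comp σ) x (by
    rw [hx2, RingHom.comp_apply, map_add, hσF, hσs, map_add, map_neg]
    ring)
  have hτE : ∀ z : E, τ (algebraMap E M z) = algebraMap E M (σ z) := fun z => RingHom.congr_fun hτ z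
  have hττθ : τ (τ θ) = -θ := by
    have h1 : τ (x * θ) = - (x * θ) := by
      rw [hxθ, map_mul, hτE, hτE, hσF, hσs, map_neg]; ring
    rw [map_mul, hτθ] at h1
    have hx0 : x ≠ 0 := by
      intro h0
      rw [h0, zero_mul] at hxθ
      rcases mul_eq_zero.mp hxθ.symm with h | h
      · exact hyM h
      · exact hsM h
    rw [hτθ]
    have : (τ x + θ) * x = 0 := by linear_combination h1
    rcases mul_eq_zero.mp this with h | h
    · linear_combination h
    · exact absurd h hx0
  have hττE : ∀ z : E, τ (τ (algebraMap E M z)) = algebraMap E M z := fun z => by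
    rw [hτE, hτE, hσσ]
  have hτ4 : ∀ z : M, τ (τ (τ (τ z))) = z := by
    have : ((τ.comp τ).comp τ).comp τ = RingHom.id M := by
      apply hextM
      · ext z
        change τ (τ (τ (τ (algebraMap E M z)))) = algebraMap E M z
        rw [hττE, hττE]
      · change τ (τ (τ (τ θ))) = θ
        rw [hττθ, map_neg, map_neg, hττθ, neg_neg]
    intro z
    exact RingHom.congr_fun this z
  let τ' : M →ₐ[F] M := { τ with
    commutes' := fun r => by
      change τ (algebraMap F M r) = algebraMap F M r
      rw [hFEM, hτE, hσF] }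
  let e : Gal(M/F) := AlgEquiv.ofBijective τ' (Algebra.IsAlgebraic.algHom_bijective τ')
  have he : ∀ z : M, e z = τ z := fun _ => rfl
  have horder : orderOf e = 2 ^ 2 := by
    apply orderOf_eq_prime_pow
    · intro h
      have h3 : e (e θ) = θ := by
        have : (e ^ 2) θ = θ := by rw [pow_one] at h; rw [h]; rfl
        rwa [pow_two, AlgEquiv.mul_apply] at this
      rw [he, he, hττθ] at h3
      have : 2 * θ = 0 := by linear_combination -h3
      rcases mul_eq_zero.mp this with h | h
      · exact h2M h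
      · exact hθ0 h
    · ext z
      change (e ^ 4) z = z
      have : (e ^ 4) z = e (e (e (e z))) := by
        rw [show (4 : ℕ) = 1 + 1 + 1 + 1 from rfl, pow_add, pow_add, pow_add, pow_one]
        rfl
      rw [this, he, he, he, he, hτ4]
  have hcard : Nat.card Gal(M/F) = 2 ^ 2 := by
    apply le_antisymm
    · rw [← hFM, Nat.card_eq_fintype_card]
      exact AlgEquiv.card_le
    · rw [← horder]
      exact orderOf_le_card
  have hgal : IsGalois F M := IsGalois.of_card_aut_eq_finrank F M (hcard.trans hFM.symm)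
  have hcyc : IsCyclic Gal(M/F) := isCyclic_of_orderOf_eq_card e (horder.trans hcard.symm)
  exact ⟨E, M, inferInstance, inferInstance, inferInstance, inferInstance, hfdE, hfdFM, hgal, hcyc,
    IsScalarTower.toAlgHom F E M, hE, hFM, s, hs⟩

/-- Sums of squares: `ℓ = 2`. -/
theorem Ax.of_sum_sq (h : Ax 2 P) (m : ℕ) :
    ∀ (F : Type u) [Field F], (2 : F) ≠ 0 → (∃ x : Fin m → F, (-1 : F) = ∑ i, x i ^ 2) →
      Virt P F → P F := by
  have : Fact (Nat.Prime 2) := ⟨Nat.prime_two⟩
  have h1 : ∀ (F : Type u) [Field F], (2 : F) ≠ 0 → (∃ x : F, (-1 : F) = x ^ 2) → Virt P F → P F := by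
    intro F _ h2 ⟨x, hx⟩ hV
    refine h.of_primitive F ⟨x, ?_⟩ (by exact_mod_cast h2) hV
    rw [show (2 ^ 2 : ℕ) = 2 ^ (1 + 1) from rfl]
    have hord : orderOf x = 2 ^ (1 + 1) := by
      apply orderOf_eq_prime_pow
      · rw [pow_one, ← hx]
        intro h3
        apply h2
        linear_combination -h3
      · rw [pow_succ, pow_one, pow_mul, ← hx]; ring
    rw [← hord]
    exact IsPrimitiveRoot.orderOf x
  induction m with
  | zero =>
    intro F _ h2 ⟨x, hx⟩ _
    rw [Finset.univ_eq_empty, Finset.sum_empty] at hx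
    exact absurd hx (neg_ne_zero.mpr one_ne_zero)
  | succ m ih =>
    intro F _ h2 ⟨x, hx⟩ hV
    rcases m with _ | m
    · refine h1 F h2 ⟨x 0, ?_⟩ hV
      rw [hx]; simp
    rw [Fin.sum_univ_succ] at hx
    set y := x 0 with hy
    let a : F := 1 + y ^ 2
    have hxa : -a = ∑ i : Fin (m + 1), x i.succ ^ 2 := by
      change -(1 + y ^ 2) = _
      linear_combination hx
    by_cases hsq : ∃ b : F, b ^ 2 = a
    · obtain ⟨b, hb⟩ := hsq
      by_cases hb0 : b = 0
      · refine h1 F h2 ⟨y, ?_⟩ hV
        rw [hb0] at hb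
        change _ = 1 + y ^ 2 at hb
        linear_combination hb
      · refine ih F h2 ⟨fun i => x i.succ / b, ?_⟩ hV
        have : ∑ i : Fin (m + 1), (x i.succ / b) ^ 2 = (∑ i : Fin (m + 1), x i.succ ^ 2) / b ^ 2 := by
          rw [Finset.sum_div]
          exact Finset.sum_congr rfl fun i _ => by rw [div_pow]
        rw [this, ← hxa, ← hb, neg_div, div_self (pow_ne_zero 2 hb0)]
    · have hna : ∀ b : F, b ^ 2 ≠ a := fun b hb => hsq ⟨b, hb⟩
      obtain ⟨E, M, _, _, _, _, _, _, _, _, g, hE, hM, s, hs⟩ := exists_quartic F h2 y a rfl hna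
      have ha0 : a ≠ 0 := fun h0 => hna 0 (by rw [h0]; ring)
      have hs0 : s ≠ 0 := by
        intro h0
        rw [h0] at hs
        have : algebraMap F E a = algebraMap F E 0 := by rw [← hs, map_zero]; ring
        exact ha0 ((algebraMap F E).injective this)
      have h2E : (2 : E) ≠ 0 := by
        intro h0
        apply h2
        apply (algebraMap F E).injective
        rw [map_zero, map_ofNat]
        exact h0
      have hPE : P E := by
        refine ih E h2E ⟨fun i => algebraMap F E (x i.succ) / s, ?_⟩ (h.virt F E hV)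
        have : ∑ i : Fin (m + 1), (algebraMap F E (x i.succ) / s) ^ 2 =
            algebraMap F E (∑ i : Fin (m + 1), x i.succ ^ 2) / s ^ 2 := by
          rw [map_sum, Finset.sum_div]
          exact Finset.sum_congr rfl fun i _ => by rw [div_pow, map_pow]
        rw [this, ← hxa, hs, map_neg, neg_div, div_self]
        rw [← hs]
        exact pow_ne_zero 2 hs0
      exact h.of_cyclic_sq F M E (by exact_mod_cast h2) hM g hE hPE

end quartic

section cyclotomic

variable [hℓ : Fact ℓ.Prime]

/-- `ℓ` odd and `F` contains a primitive `ℓ`-th root of unity. -/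
theorem Ax.of_odd_root (h : Ax ℓ P) (hℓ2 : ℓ ≠ 2) (F : Type u) [Field F]
    (hζ : ∃ ζ : F, IsPrimitiveRoot ζ ℓ) (hℓF : (ℓ : F) ≠ 0) (hV : Virt P F) : P F := by
  by_cases hζ2 : ∃ ζ : F, IsPrimitiveRoot ζ (ℓ ^ 2)
  · exact h.of_primitive F hζ2 hℓF hV
  obtain ⟨ζ, hζ⟩ := hζ
  have hℓΩ : ((ℓ ^ 3 : ℕ) : AlgebraicClosure F) ≠ 0 := by
    rw [← map_natCast (algebraMap F (AlgebraicClosure F)), Nat.cast_pow]
    exact (_root_.map_ne_zero _).mpr (pow_ne_zero 3 hℓF)
  have : NeZero ((ℓ ^ 3 : ℕ) : AlgebraicClosure F) := ⟨hℓΩ⟩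
  have : NeZero (ℓ ^ 3) := ⟨(pow_pos hℓ.out.pos 3).ne'⟩
  obtain ⟨ω, hω⟩ := HasEnoughRootsOfUnity.exists_primitiveRoot (AlgebraicClosure F) (ℓ ^ 3)
  have hω2 : IsPrimitiveRoot (ω ^ ℓ ^ 2) ℓ := hω.pow (pow_pos hℓ.out.pos 3) (by ring)
  have hω1 : IsPrimitiveRoot (ω ^ ℓ) (ℓ ^ 2) := hω.pow (pow_pos hℓ.out.pos 3) (by ring)
  have hζΩ : IsPrimitiveRoot (algebraMap F (AlgebraicClosure F) ζ) ℓ :=
    hζ.map_of_injective (algebraMap F (AlgebraicClosure F)).injective
  obtain ⟨i, -, hi⟩ := hζΩ.eq_pow_of_pow_eq_one hω2.pow_eq_one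
  obtain ⟨ξ, hξ⟩ : ∃ ξ : F, algebraMap F (AlgebraicClosure F) ξ = ω ^ ℓ ^ 2 := ⟨ζ ^ i, by rw [map_pow, hi]⟩
  have hna : ∀ b : F, b ^ ℓ ≠ ξ := by
    intro b hb
    apply hζ2
    refine ⟨b, ?_⟩
    have hord : orderOf b = ℓ ^ (1 + 1) := by
      apply orderOf_eq_prime_pow
      · rw [pow_one, hb]
        intro h1
        rw [h1, map_one] at hξ
        exact hω2.ne_one hℓ.out.one_lt hξ.symm
      · rw [pow_succ, pow_one, pow_mul, hb]
        apply (algebraMap F (AlgebraicClosure F)).injective
        rw [map_pow, hξ, map_one]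
        exact hω2.pow_eq_one
    have := IsPrimitiveRoot.orderOf b
    rwa [hord] at this
  have hint : ∀ x : AlgebraicClosure F, IsIntegral F x := fun x =>
    (Algebra.IsAlgebraic.isAlgebraic x).isIntegral
  -- the big field
  let M : IntermediateField F (AlgebraicClosure F) := F⟮ω⟯
  have hfdM : FiniteDimensional F M := adjoin.finiteDimensional (hint ω)
  have hM : finrank F M = ℓ ^ 2 := by
    rw [adjoin.finrank (hint ω)]
    have : minpoly F ω = X ^ (ℓ ^ 2) - C ξ := by
      refine (minpoly.eq_of_irreducible_of_monic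
        (X_pow_sub_C_irreducible_of_prime_pow hℓ.out hℓ2 2 hna) ?_ (monic_X_pow_sub_C _ ?_)).symm
      · rw [map_sub, map_pow, aeval_X, aeval_C, hξ, sub_self]
      · exact (pow_pos hℓ.out.pos 2).ne'
    rw [this, natDegree_X_pow_sub_C]
  have hcycM : IsCyclotomicExtension {ℓ ^ 3} F M := hω.intermediateField_adjoin_isCyclotomicExtension F
  have hgal : IsGalois F M := IsCyclotomicExtension.isGalois {ℓ ^ 3} F M
  have hcyc : IsCyclic Gal(M/F) := by
    have : IsCyclic (ZMod (ℓ ^ 3))ˣ := ZMod.isCyclic_units_of_prime_pow ℓ hℓ.out hℓ2 3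
    exact isCyclic_of_injective ((IsCyclotomicExtension.zeta_spec (ℓ ^ 3) F M).autToPow F)
      (IsPrimitiveRoot.autToPow_injective F (IsCyclotomicExtension.zeta_spec (ℓ ^ 3) F M))
  -- the small field
  let E : IntermediateField F (AlgebraicClosure F) := F⟮ω ^ ℓ⟯
  have hfdE : FiniteDimensional F E := adjoin.finiteDimensional (hint (ω ^ ℓ))
  have hE : finrank F E = ℓ := by
    rw [adjoin.finrank (hint (ω ^ ℓ))]
    have : minpoly F (ω ^ ℓ) = X ^ ℓ - C ξ := by
      refine (minpoly.eq_of_irreducible_of_monic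
        (X_pow_sub_C_irreducible_of_prime hℓ.out hna) ?_ (monic_X_pow_sub_C _ ?_)).symm
      · rw [map_sub, map_pow, aeval_X, aeval_C, hξ, ← pow_mul, ← pow_two, sub_self]
      · exact hℓ.out.ne_zero
    rw [this, natDegree_X_pow_sub_C]
  have hle : E ≤ M := by
    rw [adjoin_simple_le_iff]
    exact pow_mem (mem_adjoin_simple_self F ω) ℓ
  have hPE : P E := by
    refine h.of_primitive E ⟨AdjoinSimple.gen F (ω ^ ℓ), ?_⟩ ?_ (h.virt F E hV)
    · refine IsPrimitiveRoot.of_map_of_injective (f := algebraMap E (AlgebraicClosure F)) ?_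
        (algebraMap E (AlgebraicClosure F)).injective
      exact hω1
    · rw [← map_natCast (algebraMap F E)]
      exact (_root_.map_ne_zero _).mpr hℓF
  exact h.of_cyclic_sq F M E hℓF hM (IntermediateField.inclusion hle) hE hPE

/-- `ℓ` odd. -/
theorem Ax.of_odd (h : Ax ℓ P) (hℓ2 : ℓ ≠ 2) (F : Type u) [Field F] (hℓF : (ℓ : F) ≠ 0)
    (hV : Virt P F) : P F := by
  have hℓΩ : (ℓ : AlgebraicClosure F) ≠ 0 := by
    rw [← map_natCast (algebraMap F (AlgebraicClosure F))]
    exact (_root_.map_ne_zero _).mpr hℓF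
  have : NeZero (ℓ : AlgebraicClosure F) := ⟨hℓΩ⟩
  have : NeZero ℓ := ⟨hℓ.out.ne_zero⟩
  obtain ⟨ζ, hζ⟩ := HasEnoughRootsOfUnity.exists_primitiveRoot (AlgebraicClosure F) ℓ
  have hint : IsIntegral F ζ := (Algebra.IsAlgebraic.isAlgebraic ζ).isIntegral
  let E : IntermediateField F (AlgebraicClosure F) := F⟮ζ⟯
  have hfdE : FiniteDimensional F E := adjoin.finiteDimensional hint
  have hcycE : IsCyclotomicExtension {ℓ} F E := hζ.intermediateField_adjoin_isCyclotomicExtension F
  have hgal : IsGalois F E := IsCyclotomicExtension.isGalois {ℓ} F E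
  have hPE : P E := by
    refine h.of_odd_root hℓ2 E ⟨AdjoinSimple.gen F ζ, ?_⟩ ?_ (h.virt F E hV)
    · refine IsPrimitiveRoot.of_map_of_injective (f := algebraMap E (AlgebraicClosure F)) ?_
        (algebraMap E (AlgebraicClosure F)).injective
      exact hζ
    · rw [← map_natCast (algebraMap F E)]
      exact (_root_.map_ne_zero _).mpr hℓF
  refine h.down F E ?_ hPE
  intro hdvd
  have h1 : finrank F E ≤ ℓ - 1 := by
    rw [adjoin.finrank hint]
    have h2 : minpoly F ζ ∣ cyclotomic ℓ F := by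
      apply minpoly.dvd
      have h3 : IsRoot (cyclotomic ℓ (AlgebraicClosure F)) ζ := isRoot_cyclotomic_iff.mpr hζ
      rw [← map_cyclotomic ℓ (algebraMap F (AlgebraicClosure F)), IsRoot.def, eval_map_algebraMap] at h3
      exact h3
    calc (minpoly F ζ).natDegree ≤ (cyclotomic ℓ F).natDegree :=
          natDegree_le_of_dvd h2 (cyclotomic_ne_zero ℓ F)
      _ = ℓ - 1 := by rw [natDegree_cyclotomic, Nat.totient_prime hℓ.out]
  have h2 := Nat.le_of_dvd finrank_pos hdvd
  have := hℓ.out.one_lt
  omega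

/-- **Abstract Serre theorem.** If some finite extension of `F` has the property, then `F` has it, if `ℓ ≠ 0`
in `F` and, for `ℓ = 2`, `F` cannot be ordered. -/
theorem Ax.of_virt (h : Ax ℓ P) (F : Type u) [Field F] (hℓF : (ℓ : F) ≠ 0)
    (hord : ℓ = 2 → ¬ ∃ _ : LinearOrder F, IsStrictOrderedRing F) (hV : Virt P F) : P F := by
  by_cases hℓ2 : ℓ = 2
  · subst hℓ2
    obtain ⟨m, x, hx⟩ := Ordering.exists_fin_sum (Ordering.isSumSq_neg_one (hord rfl))
    exact h.of_sum_sq m F (by exact_mod_cast hℓF) ⟨x, hx⟩ hV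
  · exact h.of_odd hℓ2 F hℓF hV

/-- **Abstract Serre theorem**, for a given finite extension. -/
theorem Ax.of_finite (h : Ax ℓ P) (k k' : Type u) [Field k] [Field k'] [Algebra k k']
    [FiniteDimensional k k'] (hℓk : (ℓ : k) ≠ 0)
    (hord : ℓ ≠ 2 ∨ ¬ ∃ _ : LinearOrder k, IsStrictOrderedRing k) (hk' : P k') : P k :=
  h.of_virt k hℓk (fun h2 => hord.resolve_left (fun h3 => h3 h2))
    ⟨k', inferInstance, inferInstance, inferInstance, hk'⟩

end cyclotomic

end Groth.Agent.Etbc.H205.SerreField
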